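import Groth.Prelude.Def_Omega3
import Groth.Agent.Omega15.ConormalPi
import Groth.Agent.Omega15.ConormalDiffExist
import Groth.Agent.Omega15.ConormalSmooth
import Groth.Agent.OmegaLib.StalkLocal
import Groth.Agent.OmegaLib.DOmega
import Groth.Agent.MeroLib.Torsion
import Mathlib.RingTheory.Smooth.Field
import Mathlib.FieldTheory.IsAlgClosed.Basic

/-!
# The conormal map at a generically smooth point

For a closed subscheme `Z ⊆ P` of a smooth scheme over a perfect field and a point `z` of `Z` with field
local ring, `I/I² → Ω_P|_Z` is injective at `z`; pullback keeps split monomorphisms injective on stalks.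
-/

set_option autoImplicit false
set_option backward.isDefEq.respectTransparency false
set_option backward.isDefEq.respectTransparency.types false
set_option linter.style.haveILetI false
set_option maxHeartbeats 1000000

universe u

open CategoryTheory CategoryTheory.Limits AlgebraicGeometry TopologicalSpace Opposite
open scoped TensorProduct
open Groth.Agent.OmegaLib Groth.Agent.Omega15 Groth.Agent.Thick15

noncomputable section

namespace Groth.Agent.NormalSheaf3

theorem mem_span_of_injective {R : Type u} [CommRing R] (hR : IsField R) {C : Type u} [AddCommGroup C]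
    [Module R C] {n : ℕ} (D : Fin n → (C →ₗ[R] R)) (hD : ∀ c, (∀ l, D l c = 0) → c = 0) (f : C →ₗ[R] R) :
    f ∈ Submodule.span R (Set.range D) := by
  classical
  letI := hR.toField
  let T : C →ₗ[R] (Fin n → R) := LinearMap.pi D
  obtain ⟨s, hs⟩ := T.exists_leftInverse_of_injective (LinearMap.ker_eq_bot'.2 fun c hc => hD c fun l => congrFun hc l)
  have h : f = ∑ l, f (s (Pi.single l 1)) • D l := by
    refine LinearMap.ext fun c => ?_
    have h1 : s (T c) = c := LinearMap.congr_fun hs c
    have h2 : T c = ∑ l, D l c • Pi.single l (1 : R) := by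
      conv_lhs => rw [pi_eq_sum_univ' (T c)]
      rfl
    calc f c = f (s (∑ l, D l c • Pi.single l (1 : R))) := by rw [← h2, h1]
      _ = _ := by
        rw [map_sum, map_sum, LinearMap.sum_apply]
        exact Finset.sum_congr rfl fun l _ => by
          rw [map_smul, map_smul, LinearMap.smul_apply, smul_eq_mul, smul_eq_mul, mul_comm]
  rw [h]
  exact Submodule.sum_mem _ fun l _ => Submodule.smul_mem _ _ (Submodule.subset_span ⟨l, rfl⟩)

theorem isAlgClosed_stalk (k : Type u) [Field k] [IsAlgClosed k] (s : Spec (CommRingCat.of k)) :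
    ∃ h : IsField ((Spec (CommRingCat.of k)).presheaf.stalk s),
      (letI := h.toField; IsAlgClosed ((Spec (CommRingCat.of k)).presheaf.stalk s)) := by
  let e : k ≃+* (Spec (CommRingCat.of k)).presheaf.stalk s :=
    (IsLocalization.atUnits k s.asIdeal.primeCompl (S := Localization.AtPrime s.asIdeal) fun y hy =>
        isUnit_iff_ne_zero.2 fun h => hy (by rw [h]; exact zero_mem _)).toRingEquiv.trans
      (StructureSheaf.stalkIso k s).toRingEquiv
  refine ⟨e.symm.toMulEquiv.isField (Field.toIsField k), ?_⟩
  letI := (e.symm.toMulEquiv.isField (Field.toIsField k)).toField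
  exact IsAlgClosed.of_ringEquiv k _ e

variable {Z P : Scheme.{u}}

/-- The pullback of sections is natural in the module. -/
theorem pullSect_natural (i : Z ⟶ P) {M N : P.Modules} (f : M ⟶ N) (U : P.Opens) (s : Γ(M, U)) :
    ((Scheme.Modules.pullback i).map f).app (i ⁻¹ᵁ U) (OmegaSh.pullSect i M U s) =
      OmegaSh.pullSect i N U (f.app U s) :=
  congr($(((Scheme.Modules.pullbackPushforwardAdjunction i).unit.naturality f).symm).app U s)

/-- A split injection of stalks stays injective after pullback. -/
theorem injective_stalk_pullback (i : Z ⟶ P) {M N : P.Modules} (f : M ⟶ N) (z : Z)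
    (r : (DerSch.stalkFunctor P (i z)).obj N ⟶ (DerSch.stalkFunctor P (i z)).obj M)
    (hr : (DerSch.stalkFunctor P (i z)).map f ≫ r = 𝟙 _) :
    Function.Injective ((DerSch.stalkFunctor Z z).map ((Scheme.Modules.pullback i).map f)) := by
  letI := (i.stalkMap z).hom.toAlgebra
  obtain ⟨EM, hEM⟩ := exists_pullback_stalk_equiv i M z
  obtain ⟨EN, hEN⟩ := exists_pullback_stalk_equiv i N z
  let fy := ((DerSch.stalkFunctor P (i z)).map f).hom
  let fz := ((DerSch.stalkFunctor Z z).map ((Scheme.Modules.pullback i).map f)).hom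
  have h1 : ∀ m, fz (EM (1 ⊗ₜ m)) = EN (1 ⊗ₜ fy m) := fun m => by
    obtain ⟨U, hU, s, rfl⟩ := exists_gm M m
    show (DerSch.stalkFunctor Z z).map ((Scheme.Modules.pullback i).map f) _ =
      EN (1 ⊗ₜ (DerSch.stalkFunctor P (i z)).map f _)
    rw [hEM U hU s, map_gm, map_gm, hEN U hU, pullSect_natural]
  have h2 : ∀ t, fz (EM t) = EN (fy.baseChange (Z.presheaf.stalk z) t) := fun t => by
    induction t using TensorProduct.induction_on with
    | zero => simp only [map_zero]
    | tmul b m =>
      rw [show b ⊗ₜ[P.presheaf.stalk (i z)] m = b • ((1 : Z.presheaf.stalk z) ⊗ₜ[P.presheaf.stalk (i z)] m) by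
        rw [TensorProduct.smul_tmul', smul_eq_mul, mul_one], map_smul, map_smul, map_smul, map_smul, h1,
        LinearMap.baseChange_tmul]
    | add a b ha hb => simp only [map_add, ha, hb]
  have h3 : Function.Injective (fy.baseChange (Z.presheaf.stalk z)) := by
    refine Function.LeftInverse.injective (g := r.hom.baseChange (Z.presheaf.stalk z)) fun t => ?_
    rw [← LinearMap.comp_apply, ← LinearMap.baseChange_comp, show r.hom ∘ₗ fy = LinearMap.id from
      congrArg ModuleCat.Hom.hom hr, LinearMap.baseChange_id, LinearMap.id_apply]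
  intro a b hab
  obtain ⟨s, rfl⟩ := EM.surjective a
  obtain ⟨t, rfl⟩ := EM.surjective b
  exact congrArg EM (h3 (EN.injective ((h2 s).symm.trans (hab.trans (h2 t)))))

variable (k : Type u) [Field k] [IsAlgClosed k]

/-- The conormal map is injective at a point whose local ring is a field. -/
theorem injective_stalk_conormalDiff (p : P ⟶ Spec (CommRingCat.of k)) [Smooth p] (i : Z ⟶ P)
    [IsClosedImmersion i] [LocallyOfFiniteType (i ≫ p)] {Ω : P.Modules} {d : OmegaSh.Der p Ω}
    (hd : OmegaSh.IsUniversal d) {φ : Omega.conormal i ⟶ (Scheme.Modules.pullback i).obj Ω}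
    (hφ : OmegaSh.IsConormalDiff i d φ) (z : Z) (hz : IsField (Z.presheaf.stalk z)) :
    Function.Injective ((DerSch.stalkFunctor Z z).map φ) := by
  obtain ⟨π, hπ⟩ := exists_pi i z (y := i z) rfl
  obtain ⟨hR, hRc⟩ := isAlgClosed_stalk k (p (i z))
  letI := hR.toField
  haveI : IsAlgClosed ((Spec (CommRingCat.of k)).presheaf.stalk (p (i z))) := hRc
  letI := hz.toField
  letI := (p.stalkMap (i z)).hom.toAlgebra
  letI := (i.stalkMap z).hom.toAlgebra
  letI : Algebra ((Spec (CommRingCat.of k)).presheaf.stalk (p (i z))) (Z.presheaf.stalk z) :=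
    (p.stalkMap (i z) ≫ i.stalkMap z).hom.toAlgebra
  haveI : IsScalarTower ((Spec (CommRingCat.of k)).presheaf.stalk (p (i z))) (P.presheaf.stalk (i z))
      (Z.presheaf.stalk z) := IsScalarTower.of_algebraMap_eq fun _ => rfl
  haveI : Algebra.EssFiniteType ((Spec (CommRingCat.of k)).presheaf.stalk (p (i z))) (Z.presheaf.stalk z) := by
    have h := LocallyOfFiniteType.stalkMap (i ≫ p) z
    rw [Scheme.Hom.stalkMap_comp] at h
    exact h
  haveI : Algebra.FormallySmooth ((Spec (CommRingCat.of k)).presheaf.stalk (p (i z))) (P.presheaf.stalk (i z)) :=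
    formallySmooth_stalkMap (isFormallySmoothHom_of_smooth p) (i z)
  haveI : Algebra.FormallySmooth ((Spec (CommRingCat.of k)).presheaf.stalk (p (i z))) (Z.presheaf.stalk z) :=
    Algebra.FormallySmooth.of_perfectField
  have hRC : Function.Surjective (algebraMap (P.presheaf.stalk (i z)) (Z.presheaf.stalk z)) :=
    i.stalkMap_surjective z
  obtain ⟨l, hl⟩ := (Algebra.FormallySmooth.iff_split_injection
    (R := (Spec (CommRingCat.of k)).presheaf.stalk (p (i z))) hRC).1 inferInstance
  obtain ⟨EK, hEK⟩ := exists_stalk_equiv_local hd (i z)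
  obtain ⟨E, hE⟩ := exists_pullback_stalk_equiv i Ω z
  let δ : P.presheaf.stalk (i z) → (DerSch.stalkFunctor P (i z)).obj Ω := fun a =>
    EK (KaehlerDifferential.D ((Spec (CommRingCat.of k)).presheaf.stalk (p (i z))) _ a)
  have hφv : ∀ x, (DerSch.stalkFunctor Z z).map φ (π x) =
      E (1 ⊗ₜ EK (KaehlerDifferential.D ((Spec (CommRingCat.of k)).presheaf.stalk (p (i z))) _
        (x : P.presheaf.stalk (i z)))) :=
    fun x => pi_conormalDiff hφ z rfl hπ (δ := δ) (fun U hU s => hEK U hU s)
      (P := fun m => E (1 ⊗ₜ m)) (fun U hU s => hE U hU s) x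
  have hsi : (tm i (x := z) rfl).hom = algebraMap (P.presheaf.stalk (i z)) (Z.presheaf.stalk z) := by
    rw [tm_self]; rfl
  refine (injective_iff_map_eq_zero ((DerSch.stalkFunctor Z z).map φ).hom).2 fun v hv => ?_
  obtain ⟨x, rfl⟩ := hπ.1 v
  have hv' : (DerSch.stalkFunctor Z z).map φ (π x) = 0 := hv
  rw [hφv] at hv'
  have h0 : (1 : Z.presheaf.stalk z) ⊗ₜ[P.presheaf.stalk (i z)]
      KaehlerDifferential.D ((Spec (CommRingCat.of k)).presheaf.stalk (p (i z))) (P.presheaf.stalk (i z))
        (x : P.presheaf.stalk (i z)) = 0 := by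
    apply (EK.baseChange (P.presheaf.stalk (i z)) (Z.presheaf.stalk z)).injective
    apply E.injective
    rw [LinearEquiv.baseChange_tmul, hv', map_zero, map_zero]
  have hx : (x : P.presheaf.stalk (i z)) ∈
      RingHom.ker (algebraMap (P.presheaf.stalk (i z)) (Z.presheaf.stalk z)) := by rw [← hsi]; exact x.2
  have hinj : ∀ w, KaehlerDifferential.kerCotangentToTensor ((Spec (CommRingCat.of k)).presheaf.stalk (p (i z)))
      (P.presheaf.stalk (i z)) (Z.presheaf.stalk z) w = 0 → w = 0 := fun w hw => by
    have := LinearMap.congr_fun hl w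
    rw [LinearMap.comp_apply, hw, map_zero, LinearMap.id_apply] at this
    exact this.symm
  have h1 := hinj (Ideal.toCotangent _ ⟨_, hx⟩) (by
    rw [KaehlerDifferential.kerCotangentToTensor_toCotangent]; exact h0)
  rw [Ideal.toCotangent_eq_zero] at h1
  obtain ⟨a, ha⟩ := x
  exact (hπ.2.1 ⟨a, ha⟩).2 (show a ∈ RingHom.ker (tm i (x := z) rfl).hom ^ 2 by rw [hsi]; exact h1)

end Groth.Agent.NormalSheaf3
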