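import Groth.Agent.NormalSheaf3.Basic
import Groth.Agent.SerreDual.ExtShStalk
import Groth.Agent.HomStalk14.Basic
import Groth.Agent.AssSch12.Primary
import Groth.Agent.SDiv28.WeakAssUnit
import Groth.Agent.EmbLib24.Criterion
import Groth.Agent.SerreDual.Exist
import Groth.Agent.TF7.Euler

/-!
# Dual maps of generically injective maps, and vanishing of `H¹` of generic quotients
-/

set_option autoImplicit false
set_option backward.isDefEq.respectTransparency false
set_option linter.style.haveILetI false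
set_option maxHeartbeats 1000000

universe u

open CategoryTheory CategoryTheory.Limits AlgebraicGeometry TopologicalSpace Opposite MonoidalCategory
open scoped TensorProduct
open Groth.Agent.Coherent Groth.Agent.PicLib Groth.Agent.AmpleLib Groth.Agent.SerreDual

noncomputable section

namespace Groth.Agent.NormalSheaf3

variable {X : Scheme.{u}}

/-- The map `L → Hom(C, O)` of `δ : C → L'` and a pairing `L' ⊗ L ≅ O`. -/
def dualHom {C L L' : X.Modules} (δ : C ⟶ L') (a : CohB1.tensorMod L' L ≅ Coh.structureModule X) :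
    L ⟶ internalHom C (Coh.structureModule X) :=
  tensorHomEquiv C L (Coh.structureModule X) (((DCoh.tensorBi (X := X)).map δ).app L ≫ a.hom)

theorem dualHom_eval {C L L' : X.Modules} (δ : C ⟶ L') (a : CohB1.tensorMod L' L ≅ Coh.structureModule X) :
    (tensE C).map (dualHom δ a) ≫ (evalBilin C (Coh.structureModule X)).desc =
      ((DCoh.tensorBi (X := X)).map δ).app L ≫ a.hom := by
  refine AmpleLib.hom_ext fun U c b => ?_
  show (evalBilin C (Coh.structureModule X)).desc.app U ((tE C (dualHom δ a)).app U (tmul c b)) = _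
  rw [show (tE C (dualHom δ a)).app U (tmul c b) = tmul c ((dualHom δ a).app U b) from
    tensE_map_tmul C (dualHom δ a) U c b, Bilin.desc_tmul]
  show (((DCoh.tensorBi (X := X)).map δ).app L ≫ a.hom).app U (tmul c (resM L le_rfl b)) = _
  rw [PicLib.resM_self]
  rfl

variable (x : X)

local notation "Sx" => DerSch.stalkFunctor X x

theorem stalkHom_dualHom {C L L' : X.Modules} (δ : C ⟶ L')
    (a : CohB1.tensorMod L' L ≅ Coh.structureModule X) (g : ((Sx).obj L : Type u)) (c : ((Sx).obj C : Type u)) :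
    stalkHomMap x C (Coh.structureModule X) ((Sx).map (dualHom δ a) g) c =
      (Sx).map a.hom ((ModStalk.stalkTensorIso x L' L : (Sx).obj _ ≅ _).inv ((Sx).map δ c ⊗ₜ g)) := by
  let O := Coh.structureModule X
  let v := dualHom δ a
  have n1 := ModStalk.stalkTensorIso_natural (x := x) (𝟙 C) v
  have n2 := ModStalk.stalkTensorIso_natural (x := x) δ (𝟙 L)
  rw [(DCoh.tensorBi (X := X)).map_id, NatTrans.id_app, Category.id_comp, (Sx).map_id] at n1
  rw [((DCoh.tensorBi (X := X)).obj L').map_id, Category.comp_id, (Sx).map_id] at n2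
  have key : (MonoidalCategoryStruct.tensorHom (𝟙 ((Sx).obj C)) ((Sx).map v)) ≫
      ((ModStalk.stalkTensorIso x C (internalHom C O) : (Sx).obj _ ≅ _).inv ≫ (Sx).map (evalBilin C O).desc) =
      (MonoidalCategoryStruct.tensorHom ((Sx).map δ) (𝟙 ((Sx).obj L))) ≫
      ((ModStalk.stalkTensorIso x L' L : (Sx).obj _ ≅ _).inv ≫ (Sx).map a.hom) := by
    refine (cancel_epi (ModStalk.stalkTensorIso x C L : (Sx).obj _ ≅ _).hom).1 ?_
    rw [← reassoc_of% n1, ← reassoc_of% n2, Iso.hom_inv_id_assoc, Iso.hom_inv_id_assoc, ← Functor.map_comp,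
      ← Functor.map_comp, dualHom_eval]
  exact congrArg (fun φ => φ.hom (c ⊗ₜ[X.presheaf.stalk x] g)) key

/-- Jointly injective maps to an invertible module give generating sections of the dual. -/
theorem surjective_stalk_dual [IsLocallyNoetherian X] {C L L' : X.Modules} (hC : Coh.IsCoh C)
    (hL : PicF.IsInvertible L) (a : CohB1.tensorMod L' L ≅ Coh.structureModule X)
    (hK : IsField (X.presheaf.stalk x)) {n : ℕ} (δ : Fin n → (C ⟶ L'))
    (hinj : ∀ c, (∀ l, (Sx).map (δ l) c = 0) → c = 0) :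
    Function.Surjective ((Sx).map (Sigma.desc fun l => dualHom (δ l) a)) := by
  classical
  let R := X.presheaf.stalk x
  let O := Coh.structureModule X
  let N := internalHom C O
  let u₀ : R ≃ₗ[R] ((Sx).obj O : Type u) := SDiv28.unitStalkEquiv x
  obtain ⟨U, hxU, g₀, hg₀⟩ := exists_isGen hL x
  let g : ((Sx).obj L : Type u) := L.presheaf.germ U x hxU g₀
  have hg := EmbLib24.bijective_smul_germ hg₀ hxU
  let eg : R ≃ₗ[R] ((Sx).obj L : Type u) := LinearEquiv.ofBijective (LinearMap.toSpanSingleton R _ g) hg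
  let i₀ : ((Sx).obj L' : Type u) ⊗[R] ((Sx).obj L : Type u) →ₗ[R] ((Sx).obj O : Type u) :=
    ((ModStalk.stalkTensorIso x L' L : (Sx).obj _ ≅ _).inv ≫ (Sx).map a.hom).hom
  have hi₀ : Function.Injective i₀ := by
    haveI : IsIso ((ModStalk.stalkTensorIso x L' L : (Sx).obj _ ≅ _).inv ≫ (Sx).map a.hom) :=
      inferInstanceAs (IsIso ((ModStalk.stalkTensorIso x L' L : (Sx).obj _ ≅ _).inv ≫
        ((Sx).mapIso a).hom))
    exact (ConcreteCategory.bijective_of_isIso
      ((ModStalk.stalkTensorIso x L' L : (Sx).obj _ ≅ _).inv ≫ (Sx).map a.hom)).1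
  let D : Fin n → (((Sx).obj C : Type u) →ₗ[R] R) := fun l =>
    u₀.symm.toLinearMap ∘ₗ i₀ ∘ₗ ((TensorProduct.mk R _ _).flip g) ∘ₗ ((Sx).map (δ l)).hom
  have hD : ∀ c, (∀ l, D l c = 0) → c = 0 := fun c hc => hinj c fun l => by
    have h1 : i₀ (((Sx).map (δ l)).hom c ⊗ₜ g) = 0 := u₀.symm.map_eq_zero_iff.1 (hc l)
    have h2 : ((Sx).map (δ l)).hom c ⊗ₜ[R] g = 0 := hi₀ (h1.trans (map_zero i₀).symm)
    have h3 := congrArg ((TensorProduct.congr (LinearEquiv.refl R ((Sx).obj L' : Type u)) eg.symm).trans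
      (TensorProduct.rid R _)) h2
    rw [show g = eg 1 from (one_smul R g).symm] at h3
    simpa using h3
  let sh : ((Sx).obj N : Type u) →ₗ[R] (((Sx).obj C : Type u) →ₗ[R] ((Sx).obj O : Type u)) :=
    (ModuleCat.homLinearEquiv (R := R) (S := R)).toLinearMap ∘ₗ stalkHomMap x C O
  have hsh : ∀ l c, sh ((Sx).map (dualHom (δ l) a) g) c = u₀ (D l c) := fun l c =>
    (stalkHom_dualHom x (δ l) a g c).trans (u₀.apply_symm_apply _).symm
  let Sm := ((Sx).map (Sigma.desc fun l => dualHom (δ l) a)).hom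
  have hmem : ∀ l, (Sx).map (dualHom (δ l) a) g ∈ LinearMap.range Sm := fun l =>
    ⟨(Sx).map (Sigma.ι (fun _ : Fin n => L) l) g, by
      show (Sx).map _ ((Sx).map _ g) = _
      rw [← ConcreteCategory.comp_apply, ← Functor.map_comp, Sigma.ι_desc]⟩
  have hsurj : ∀ ψ, ∃ h ∈ LinearMap.range Sm, sh h = ψ := fun ψ => by
    have h1 := mem_span_of_injective hK D hD (u₀.symm.toLinearMap ∘ₗ ψ)
    obtain ⟨b, hb⟩ := (Submodule.mem_span_range_iff_exists_fun R).1 h1
    refine ⟨∑ l, b l • (Sx).map (dualHom (δ l) a) g, Submodule.sum_mem _ fun l _ => Submodule.smul_mem _ _ (hmem l), ?_⟩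
    refine LinearMap.ext fun c => ?_
    have h2 := congrArg u₀ (LinearMap.congr_fun hb c)
    simp only [LinearMap.sum_apply, LinearMap.smul_apply, map_sum, map_smul, LinearMap.comp_apply] at h2
    have h4 : u₀ (u₀.symm.toLinearMap (ψ c)) = ψ c := u₀.apply_symm_apply _
    rw [← h4, ← h2]
    simp only [map_sum, map_smul, LinearMap.sum_apply, LinearMap.smul_apply, hsh]
    exact Finset.sum_congr rfl fun l _ => (map_smul u₀ (b l) (D l c)).symm
  haveI : Module.Finite R ((Sx).obj C : Type u) := AssSch12.finite_stalk hC x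
  haveI : Module.Finite R ((Sx).obj O : Type u) := Module.Finite.equiv u₀
  obtain ⟨e⟩ := HomStalk14.nonempty_stalk_internalHom_equiv hC (isCoh_structureModule X) x
  haveI : Module.Finite R (((Sx).obj C : Type u) →ₗ[R] ((Sx).obj O : Type u)) := by
    letI := hK.toField
    infer_instance
  have he : Function.Surjective (sh ∘ₗ (show (((Sx).obj C : Type u) →ₗ[R] ((Sx).obj O : Type u)) →ₗ[R]
      ((Sx).obj N : Type u) from e.symm.toLinearMap)) := fun ψ => by
    obtain ⟨h, -, rfl⟩ := hsurj ψ
    exact ⟨e h, congrArg sh (e.symm_apply_apply h)⟩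
  have hinj' : Function.Injective sh := fun p q hpq => by
    apply e.injective
    refine OrzechProperty.injective_of_surjective_endomorphism _ he ?_
    show sh (e.symm (e p)) = sh (e.symm (e q))
    rw [e.symm_apply_apply, e.symm_apply_apply]
    exact hpq
  intro h
  obtain ⟨h', ⟨t, ht⟩, hh'⟩ := hsurj (sh h)
  exact ⟨t, ht.trans (hinj' hh')⟩

variable (k : Type u) [Field k] [X.Over (Spec (CommRingCat.of k))] [IsProper (X ↘ Spec (CommRingCat.of k))]

include k

/-- `H¹` of a sum. -/
theorem subsingleton_h1_sigma {n : ℕ} (L : X.Modules) [Subsingleton (Coh.HH X L 1)] :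
    Subsingleton (Coh.HH X (∐ fun _ : Fin n => L) 1) := by
  classical
  let E := ∐ fun _ : Fin n => L
  have hsum : ∑ j, Sigma.π (fun _ : Fin n => L) j ≫ Sigma.ι (fun _ : Fin n => L) j = 𝟙 E := by
    refine Sigma.hom_ext _ _ fun i => ?_
    rw [Preadditive.comp_sum, Category.comp_id, Finset.sum_eq_single i
      (fun j _ hj => by rw [Sigma.ι_π_of_ne_assoc _ hj.symm, zero_comp])
      (fun h => absurd (Finset.mem_univ i) h)]
    rw [Sigma.ι_π_eq_id_assoc]
  refine subsingleton_of_forall_eq 0 fun z => ?_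
  have h1 : ∀ (s : Finset (Fin n)), hmap k (∑ j ∈ s, Sigma.π (fun _ : Fin n => L) j ≫ Sigma.ι (fun _ : Fin n => L) j) 1 z = 0 := by
    intro s
    induction s using Finset.induction with
    | empty => rw [Finset.sum_empty, ← zero_comp (Z := E) (f := 𝟙 E), hmap_comp]; simp [hmap_zero]
    | insert b s hb ih =>
      rw [Finset.sum_insert hb, hmap_add, LinearMap.add_apply, ih, add_zero, hmap_comp, LinearMap.comp_apply,
        Subsingleton.elim (hmap k (Sigma.π (fun _ : Fin n => L) b) 1 z) 0, map_zero]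
  have h2 := h1 Finset.univ
  rw [hsum, hmap_id] at h2
  exact h2

/-- Generic quotients of sums of modules without `H¹` have no `H¹`. -/
theorem subsingleton_h1_of_generic_epi (hdim : topologicalKrullDim X ≤ 1) {L N : X.Modules}
    (hN : Coh.IsCoh N) {n : ℕ} (S : (∐ fun _ : Fin n => L) ⟶ N) [Subsingleton (Coh.HH X L 1)]
    (hS : ∀ η ∈ genericPoints X, Function.Surjective ((DerSch.stalkFunctor X η).map S))
    (hE : Coh.IsQCoh (∐ fun _ : Fin n => L)) :
    Subsingleton (Coh.HH X N 1) := by
  haveI := EulerLib.isNoetherian_of_proper k (X := X)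
  let E := ∐ fun _ : Fin n => L
  haveI : Subsingleton (Coh.HH X E 1) := subsingleton_h1_sigma k L
  haveI := hN.1
  haveI := hE
  let T := ShortComplex.mk S (cokernel.π S) (cokernel.condition S)
  have hT : T.Exact := ShortComplex.exact_of_g_is_cokernel _ (cokernelIsCokernel S)
  have hQ : Coh.IsCoh (cokernel S) := isCoh_cokernel S hE hN
  haveI : Coh.IsQCoh T.X₁ := hE
  haveI : Coh.IsQCoh T.X₂ := hN.1
  obtain ⟨hex, hsurj⟩ := exact_hmap_of_exact k X hT (inferInstanceAs (Epi (cokernel.π S))) (d := 1)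
    (by exact_mod_cast hdim)
  haveI : Subsingleton (Coh.HH X (cokernel S) 1) := by
    refine subsingleton_HH_of_closedPoints (cokernel S) hQ (fun x hx => ?_) 1 Nat.one_pos
    refine TF7.isClosed_singleton_of_notGeneric hdim fun hg => hx ⟨fun p q => ?_⟩
    have h3 : ∀ w : ((DerSch.stalkFunctor X x).obj (cokernel S) : Type u), w = 0 := fun w => by
      haveI : Epi ((DerSch.stalkFunctor X x).map (cokernel.π S)) := inferInstance
      obtain ⟨m, rfl⟩ := (ModuleCat.epi_iff_surjective ((DerSch.stalkFunctor X x).map (cokernel.π S))).1 inferInstance w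
      obtain ⟨t, rfl⟩ := hS x hg m
      rw [← ConcreteCategory.comp_apply, ← Functor.map_comp, cokernel.condition, Functor.map_zero]
      rfl
    exact (h3 p).trans (h3 q).symm
  refine subsingleton_of_forall_eq 0 fun z => ?_
  obtain ⟨w, hw⟩ := (hex z).1 (Subsingleton.elim (α := Coh.HH X (cokernel S) 1) _ _)
  rw [← hw, Subsingleton.elim w 0, map_zero]

end Groth.Agent.NormalSheaf3
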